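import Mathlib.LinearAlgebra.Matrix.ToLin
import Mathlib.LinearAlgebra.Matrix.Symmetric
import Mathlib.LinearAlgebra.Matrix.Rank
import Mathlib.Data.Rat.Defs
import Mathlib.Algebra.Order.Field.Rat
import Mathlib.Algebra.Field.ZMod
import Mathlib.LinearAlgebra.Quotient.Basic
import Mathlib.Algebra.Module.Torsion.Basic
import Mathlib.SetTheory.Cardinal.Finite
import Mathlib.FieldTheory.Finiteness
import Mathlib.LinearAlgebra.FiniteDimensional.Lemmas
import Mathlib.Tactic.LinearCombination
import Mathlib.Tactic.FieldSimp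

/-!
# Cokernels of connected symmetric Laplacian-like integer matrices
-/

open Finset Matrix

namespace Groth.L05.NumLap

variable {n : ℕ} (A : Matrix (Fin n) (Fin n) ℤ) (m : Fin n → ℤ)

/-- Maximum principle. -/
theorem proportional_of_mulVec_eq_zero (hA : ∀ i j, i ≠ j → 0 ≤ A i j) (hm : ∀ i, 0 < m i)
    (hAm : A.mulVec m = 0)
    (hconn : ∀ I : Finset (Fin n), I.Nonempty → I ≠ univ → ∃ i ∈ I, ∃ j ∉ I, A i j ≠ 0)
    (y : Fin n → ℤ) (hy : A.mulVec y = 0) (i j : Fin n) : y i * m j = y j * m i := by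
  classical
  let r : Fin n → ℚ := fun k => (y k : ℚ) / (m k : ℚ)
  have hm' : ∀ k, (0 : ℚ) < (m k : ℚ) := fun k => by exact_mod_cast hm k
  obtain ⟨i₀, -, hi₀⟩ := Finset.exists_max_image univ r ⟨i, mem_univ i⟩
  let I : Finset (Fin n) := univ.filter fun k => r k = r i₀
  have hI : I = univ := by
    by_contra hne
    obtain ⟨a, ha, b, hb, hab⟩ := hconn I ⟨i₀, by simp [I]⟩ hne
    have hra : r a = r i₀ := by simpa [I] using ha
    have hrb : r b ≠ r i₀ := by simpa [I] using hb
    have hab' : a ≠ b := fun h => hrb (h ▸ hra)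
    have hrow1 : ∑ k, (A a k : ℚ) * (m k : ℚ) = 0 := by
      have := congrFun hAm a
      rw [Matrix.mulVec, dotProduct] at this
      exact_mod_cast this
    have hrow2 : ∑ k, (A a k : ℚ) * (y k : ℚ) = 0 := by
      have := congrFun hy a
      rw [Matrix.mulVec, dotProduct] at this
      exact_mod_cast this
    have hsum : ∑ k, (A a k : ℚ) * (m k : ℚ) * (r a - r k) = 0 := by
      have h1 : ∀ k, (A a k : ℚ) * (m k : ℚ) * (r a - r k)
          = r a * ((A a k : ℚ) * (m k : ℚ)) - (A a k : ℚ) * (y k : ℚ) := by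
        intro k
        have := (hm' k).ne'
        simp only [r]
        field_simp
      simp only [h1]
      rw [Finset.sum_sub_distrib, ← Finset.mul_sum, hrow1, hrow2]
      simp
    have hnn : ∀ k ∈ (univ : Finset (Fin n)), 0 ≤ (A a k : ℚ) * (m k : ℚ) * (r a - r k) := by
      intro k _
      rcases eq_or_ne a k with h | h
      · subst h; simp
      · have : (0 : ℚ) ≤ (A a k : ℚ) := by exact_mod_cast hA a k h
        have h2 : 0 ≤ r a - r k := by rw [hra]; linarith [hi₀ k (mem_univ k)]
        exact mul_nonneg (mul_nonneg this (hm' k).le) h2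
    have hz := (Finset.sum_eq_zero_iff_of_nonneg hnn).mp hsum b (mem_univ b)
    rcases mul_eq_zero.mp hz with h | h
    · rcases mul_eq_zero.mp h with h' | h'
      · exact hab (by exact_mod_cast h')
      · exact (hm' b).ne' h'
    · rw [hra, sub_eq_zero] at h
      exact hrb h.symm
  have hr : ∀ k, r k = r i₀ := fun k => by
    have : k ∈ I := hI ▸ mem_univ k
    simpa [I] using this
  have h := (hr i).trans (hr j).symm
  simp only [r] at h
  rw [div_eq_div_iff (hm' i).ne' (hm' j).ne'] at h
  exact_mod_cast h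

variable (ℓ : ℕ)

/-- Edge set. -/
abbrev Edge : Type := {p : Fin n × Fin n // p.1 < p.2 ∧ 0 < A p.1 p.2}

/-- Reduction of `A` mod `ℓ`. -/
def redMap : (Fin n → ZMod ℓ) →ₗ[ZMod ℓ] (Fin n → ZMod ℓ) :=
  Matrix.mulVecLin (A.map fun x : ℤ => (x : ZMod ℓ))

theorem finrank_ker_le [Fact ℓ.Prime] (hsymm : A.IsSymm) (hA : ∀ i j, i ≠ j → 0 ≤ A i j)
    (hAm : A.mulVec m = 0)
    (hconn : ∀ I : Finset (Fin n), I.Nonempty → I ≠ univ → ∃ i ∈ I, ∃ j ∉ I, A i j ≠ 0)
    (hℓA : ∀ i j, A i j ≠ 0 → ¬ ((ℓ : ℤ) ∣ A i j))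
    (hℓm : ∀ i, ¬ ((ℓ : ℤ) ∣ m i)) :
    Module.finrank (ZMod ℓ) (LinearMap.ker (redMap A ℓ)) + n ≤ Fintype.card (Edge A) + 2 := by
  classical
  let F := ZMod ℓ
  let μ : Fin n → F := fun i => (m i : F)
  have hμ : ∀ i, μ i ≠ 0 := fun i h => hℓm i ((ZMod.intCast_zmod_eq_zero_iff_dvd _ _).mp h)
  let B : Matrix (Edge A) (Fin n) F := fun e k =>
    (if e.1.1 = k then 1 else 0) - (if e.1.2 = k then 1 else 0)
  have hB : ∀ (u : Fin n → F) (e : Edge A), B.mulVec u e = u e.1.1 - u e.1.2 := by
    intro u e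
    simp [B, Matrix.mulVec, dotProduct, sub_mul, Finset.sum_sub_distrib]
  have hkerB : Module.finrank F (LinearMap.ker B.mulVecLin) ≤ 1 := by
    have hle : LinearMap.ker B.mulVecLin ≤ Submodule.span F {(fun _ => 1 : Fin n → F)} := by
      intro u hu
      rw [LinearMap.mem_ker, Matrix.mulVecLin_apply] at hu
      have he : ∀ a b, a ≠ b → A a b ≠ 0 → u a = u b := by
        intro a b hab h
        have hpos : 0 < A a b := lt_of_le_of_ne (hA a b hab) (Ne.symm h)
        rcases lt_or_gt_of_ne hab with hlt | hlt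
        · have := congrFun hu ⟨(a, b), hlt, hpos⟩
          rw [hB] at this
          exact sub_eq_zero.mp this
        · have := congrFun hu ⟨(b, a), hlt, by rw [hsymm.apply]; exact hpos⟩
          rw [hB] at this
          exact (sub_eq_zero.mp this).symm
      rw [Submodule.mem_span_singleton]
      rcases Nat.eq_zero_or_pos n with h0 | h0
      · subst h0
        exact ⟨0, funext fun i => i.elim0⟩
      refine ⟨u ⟨0, h0⟩, funext fun i => ?_⟩
      simp only [Pi.smul_apply, smul_eq_mul, mul_one]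
      let I : Finset (Fin n) := univ.filter fun k => u k = u ⟨0, h0⟩
      have hI : I = univ := by
        by_contra hne
        obtain ⟨a, ha, b, hb, hab⟩ := hconn I ⟨⟨0, h0⟩, by simp [I]⟩ hne
        have hne' : a ≠ b := fun h => hb (h ▸ ha)
        have := he a b hne' hab
        simp only [I, mem_filter, mem_univ, true_and] at ha hb
        exact hb (this ▸ ha)
      have : i ∈ I := hI ▸ mem_univ i
      simp only [I, mem_filter, mem_univ, true_and] at this
      exact this.symm
    refine (Submodule.finrank_mono hle).trans ?_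
    refine le_trans (finrank_span_le_card _) ?_
    simp
  let w : Edge A → F := fun e => μ e.1.1 * (A e.1.1 e.1.2 : F) * μ e.1.2
  have hw : ∀ e, w e ≠ 0 := fun e =>
    mul_ne_zero (mul_ne_zero (hμ _)
      (fun h => hℓA _ _ e.2.2.ne' ((ZMod.intCast_zmod_eq_zero_iff_dvd _ _).mp h))) (hμ _)
  let Φ : (Fin n → F) →ₗ[F] (Edge A → F) :=
    { toFun := fun y e => w e * (y e.1.1 / μ e.1.1 - y e.1.2 / μ e.1.2)
      map_add' := fun y z => by ext e; simp only [Pi.add_apply]; ring
      map_smul' := fun c y => by ext e; simp only [Pi.smul_apply, smul_eq_mul, RingHom.id_apply]; ring }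
  have hΦ : ∀ y ∈ LinearMap.ker (redMap A ℓ), Φ y ∈ LinearMap.ker Bᵀ.mulVecLin := by
    intro y hy
    rw [LinearMap.mem_ker, Matrix.mulVecLin_apply]
    ext i
    let u : Fin n → F := fun k => y k / μ k
    have hyk : ∀ k, y k = μ k * u k := fun k => by
      simp only [u]; field_simp [hμ k]
    have hrow : ∑ k, (A i k : F) * y k = 0 := by
      have := congrFun (LinearMap.mem_ker.mp hy) i
      simpa [redMap, Matrix.mulVec, dotProduct] using this
    have hrowm : ∑ k, (A i k : F) * μ k = 0 := by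
      have := congrFun hAm i
      rw [Matrix.mulVec, dotProduct] at this
      have h' : ((∑ k, A i k * m k : ℤ) : ZMod ℓ) = ((0 : ℤ) : ZMod ℓ) := congrArg _ this
      push_cast at h'
      exact h'
    let f : Fin n × Fin n → F := fun p =>
      ((if p.1 = i then 1 else 0) - (if p.2 = i then 1 else 0)) *
        (μ p.1 * (A p.1 p.2 : F) * μ p.2 * (u p.1 - u p.2))
    have hstep : (Bᵀ.mulVec (Φ y)) i = ∑ p : Fin n × Fin n, if p.1 < p.2 then f p else 0 := by
      have h1 : (Bᵀ.mulVec (Φ y)) i = ∑ e : Edge A, f e.1 := by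
        simp only [Matrix.mulVec, dotProduct, Matrix.transpose_apply]
        exact Finset.sum_congr rfl fun e _ => rfl
      rw [h1, ← Finset.sum_subtype (univ.filter fun p : Fin n × Fin n => p.1 < p.2 ∧ 0 < A p.1 p.2)
        (by simp) f, ← Finset.sum_filter]
      refine Finset.sum_subset (fun p hp => ?_) (fun p hp hp' => ?_)
      · simp only [mem_filter, mem_univ, true_and] at hp ⊢
        exact hp.1
      · simp only [mem_filter, mem_univ, true_and] at hp hp'
        have hz : A p.1 p.2 = 0 :=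
          le_antisymm (not_lt.mp fun h => hp' ⟨hp, h⟩) (hA _ _ hp.ne)
        simp [f, hz]
    rw [hstep, Pi.zero_apply]
    let g : Fin n → Fin n → F := fun a b => μ a * (A a b : F) * μ b * (u a - u b)
    have hg : ∀ a b, g b a = - g a b := fun a b => by
      simp only [g, hsymm.apply a b]; ring
    have hd : (∑ p : Fin n × Fin n, if p.1 < p.2 then f p else 0)
        = ∑ k, g i k := by
      rw [Fintype.sum_prod_type]
      have h1 : ∀ a b : Fin n, (if a < b then f (a, b) else 0) =
          (if a = i then (if a < b then g a b else 0) else 0) -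
            (if b = i then (if a < b then g a b else 0) else 0) := by
        intro a b
        simp only [f, g]
        split_ifs <;> ring
      simp only [h1, Finset.sum_sub_distrib]
      rw [Finset.sum_comm (f := fun a b => if a = i then (if a < b then g a b else 0) else 0)]
      simp only [Finset.sum_ite_eq', mem_univ, if_true]
      rw [← Finset.sum_sub_distrib]
      refine Finset.sum_congr rfl fun k _ => ?_
      rcases lt_trichotomy i k with h | h | h
      · simp [h, h.not_gt]
      · subst h; simp [g]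
      · simp [h, h.not_gt, hg k i]
    rw [hd]
    have hgi : ∀ k, g i k = μ i * u i * ((A i k : F) * μ k) - μ i * ((A i k : F) * y k) := by
      intro k
      simp only [g, hyk k]
      ring
    simp only [hgi, Finset.sum_sub_distrib, ← Finset.mul_sum, hrow, hrowm, mul_zero, sub_zero]
  let Φ' : LinearMap.ker (redMap A ℓ) →ₗ[F] LinearMap.ker Bᵀ.mulVecLin :=
    (Φ.comp (LinearMap.ker (redMap A ℓ)).subtype).codRestrict _ fun y => hΦ y.1 y.2
  have h1 := LinearMap.finrank_range_add_finrank_ker Φ'
  have h2 : Module.finrank F (LinearMap.range Φ') ≤ Module.finrank F (LinearMap.ker Bᵀ.mulVecLin) :=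
    Submodule.finrank_le _
  let D : (Fin n → F) →ₗ[F] (Fin n → F) :=
    { toFun := fun y k => y k / μ k
      map_add' := fun y z => by ext k; simp [add_div]
      map_smul' := fun c y => by ext k; simp [mul_div_assoc] }
  have h3 : Module.finrank F (LinearMap.ker Φ') ≤ Module.finrank F (LinearMap.ker B.mulVecLin) := by
    refine LinearMap.finrank_le_finrank_of_injective
      (f := ((D.comp (LinearMap.ker (redMap A ℓ)).subtype).comp (LinearMap.ker Φ').subtype).codRestrict
        (LinearMap.ker B.mulVecLin) ?_) ?_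
    · intro y
      rw [LinearMap.mem_ker, Matrix.mulVecLin_apply]
      ext e
      have := congrFun (congrArg Subtype.val (LinearMap.mem_ker.mp y.2)) e
      rw [hB]
      have h4 : w e * (y.1.1 e.1.1 / μ e.1.1 - y.1.1 e.1.2 / μ e.1.2) = 0 := this
      exact (mul_eq_zero.mp h4).resolve_left (hw e)
    · intro y z hyz
      have := congrArg Subtype.val hyz
      apply Subtype.ext
      apply Subtype.ext
      funext k
      have hk := congrFun this k
      simp only [D] at hk
      exact (div_left_inj' (hμ k)).mp hk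
  have h5 : Module.finrank F (LinearMap.ker Bᵀ.mulVecLin) + Bᵀ.rank = Fintype.card (Edge A) := by
    rw [Matrix.rank, add_comm, LinearMap.finrank_range_add_finrank_ker, Module.finrank_pi]
  have h6 : Module.finrank F (LinearMap.ker B.mulVecLin) + B.rank = n := by
    rw [Matrix.rank, add_comm, LinearMap.finrank_range_add_finrank_ker, Module.finrank_pi,
      Fintype.card_fin]
  rw [Matrix.rank_transpose] at h5
  change Module.finrank F (LinearMap.ker (redMap A ℓ)) + n ≤ _
  omega

theorem card_torsionBy_coker_le [Fact ℓ.Prime] (hsymm : A.IsSymm)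
    (hA : ∀ i j, i ≠ j → 0 ≤ A i j) (hm : ∀ i, 0 < m i) (hAm : A.mulVec m = 0)
    (hconn : ∀ I : Finset (Fin n), I.Nonempty → I ≠ univ → ∃ i ∈ I, ∃ j ∉ I, A i j ≠ 0)
    (hℓA : ∀ i j, A i j ≠ 0 → ¬ ((ℓ : ℤ) ∣ A i j))
    (hℓm : ∀ i, ¬ ((ℓ : ℤ) ∣ m i)) :
    Nat.card (Submodule.torsionBy ℤ ((Fin n → ℤ) ⧸ LinearMap.range (Matrix.mulVecLin A)) (ℓ : ℤ))
      ≤ ℓ ^ (Fintype.card (Edge A) + 1 - n) := by
  classical
  have hℓ : (ℓ : ℤ) ≠ 0 := by exact_mod_cast (Fact.out (p := ℓ.Prime)).ne_zero
  set T := Submodule.torsionBy ℤ ((Fin n → ℤ) ⧸ LinearMap.range (Matrix.mulVecLin A)) (ℓ : ℤ)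
  rcases Nat.eq_zero_or_pos n with h0 | h0
  · subst h0
    haveI : Subsingleton T := by
      refine ⟨fun a b => Subtype.ext ?_⟩
      obtain ⟨x, hx⟩ := Submodule.mkQ_surjective _ a.1
      obtain ⟨y, hy⟩ := Submodule.mkQ_surjective _ b.1
      rw [← hx, ← hy, Subsingleton.elim x y]
    exact le_trans (Finite.card_le_one_iff_subsingleton.mpr inferInstance)
      (Nat.one_le_pow _ _ (Fact.out (p := ℓ.Prime)).pos)
  have key : ∀ c : T, ∃ x y : Fin n → ℤ,
      Submodule.Quotient.mk x = c.1 ∧ A.mulVec y = (ℓ : ℤ) • x := by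
    intro c
    obtain ⟨x, hx⟩ := Submodule.mkQ_surjective _ c.1
    have h := (Submodule.mem_torsionBy_iff _ _).mp c.2
    rw [← hx, Submodule.mkQ_apply, ← Submodule.Quotient.mk_smul,
      Submodule.Quotient.mk_eq_zero] at h
    obtain ⟨y, hy⟩ := h
    exact ⟨x, y, hx, hy⟩
  choose X Y hX hY using key
  let μ : Fin n → ZMod ℓ := fun i => (m i : ZMod ℓ)
  let K := LinearMap.ker (redMap A ℓ)
  have hYK : ∀ c, (fun i => (Y c i : ZMod ℓ)) ∈ K := by
    intro c
    rw [LinearMap.mem_ker]
    ext i
    have := congrArg (fun z : ℤ => (z : ZMod ℓ)) (congrFun (hY c) i)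
    simpa [redMap, Matrix.mulVec, dotProduct, Int.cast_sum] using this
  have hμK : μ ∈ K := by
    rw [LinearMap.mem_ker]
    ext i
    have := congrArg (fun z : ℤ => (z : ZMod ℓ)) (congrFun hAm i)
    simpa [μ, redMap, Matrix.mulVec, dotProduct, Int.cast_sum] using this
  let S : Submodule (ZMod ℓ) K := Submodule.span (ZMod ℓ) {⟨μ, hμK⟩}
  let φ : T → K ⧸ S := fun c => Submodule.Quotient.mk ⟨_, hYK c⟩
  have hinj : Function.Injective φ := by
    intro c d hcd
    have h := (Submodule.Quotient.eq S).mp hcd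
    rw [Submodule.mem_span_singleton] at h
    obtain ⟨t, ht⟩ := h
    obtain ⟨t', rfl⟩ := ZMod.intCast_surjective t
    have hdiv : ∀ i, (ℓ : ℤ) ∣ Y c i - Y d i - t' * m i := by
      intro i
      rw [← ZMod.intCast_zmod_eq_zero_iff_dvd]
      have := congrFun (congrArg Subtype.val ht) i
      simp [μ] at this
      push_cast
      linear_combination -this
    choose z hz using hdiv
    apply Subtype.ext
    rw [← hX c, ← hX d, Submodule.Quotient.eq]
    refine ⟨z, ?_⟩
    rw [Matrix.mulVecLin_apply]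
    have hzv : (ℓ : ℤ) • z = Y c - Y d - t' • m := by
      funext i
      simpa using (hz i).symm
    have h2 := congrArg A.mulVec hzv
    rw [Matrix.mulVec_smul, Matrix.mulVec_sub, Matrix.mulVec_sub, Matrix.mulVec_smul, hAm, hY, hY,
      smul_zero, sub_zero, ← smul_sub] at h2
    funext i
    have := congrFun h2 i
    simp only [Pi.smul_apply, smul_eq_mul] at this
    exact mul_left_cancel₀ hℓ this
  have hfin := finrank_ker_le A m ℓ hsymm hA hAm hconn hℓA hℓm
  have hS : Module.finrank (ZMod ℓ) S = 1 := by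
    refine finrank_span_singleton ?_
    intro h
    have := congrFun (congrArg Subtype.val h) ⟨0, h0⟩
    exact hℓm ⟨0, h0⟩ ((ZMod.intCast_zmod_eq_zero_iff_dvd _ _).mp this)
  calc Nat.card T ≤ Nat.card (K ⧸ S) := Nat.card_le_card_of_injective φ hinj
    _ = ℓ ^ Module.finrank (ZMod ℓ) (K ⧸ S) := by
        rw [Module.natCard_eq_pow_finrank (K := ZMod ℓ), Nat.card_zmod]
    _ ≤ _ := by
        refine Nat.pow_le_pow_right (Fact.out (p := ℓ.Prime)).pos ?_
        have := Submodule.finrank_quotient_add_finrank S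
        change Module.finrank (ZMod ℓ) K + n ≤ _ at hfin
        omega

end Groth.L05.NumLap
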